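import Mathlib
import Cfsg.Agent.Lib.FrattiniBasic

/-!
# Abelian `r'`-groups acting on `r`-groups (helper605, for S2501)

`B` an abelian `r'`-group normalising an `r`-group `U`: `|B| |C_U(B)| ≤ |U| |C_B(U)|` (`card_mul_le`), and for a
`B`-invariant normal subgroup `M` of `U`: `|B|² |C_U(B)| ≤ |U| |C_B(M)| |C_B(U/M)|` (`card_sq_mul_le`).
-/

set_option autoImplicit false

namespace Cfsg.Agent.H605.Ab

open Subgroup

section basic

variable {G : Type*} [Group G]

/-- an `r`-element of order dividing a number prime to `r` is trivial -/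
theorem eq_one_of_pow {r n : ℕ} {U : Subgroup G} (hU : IsPGroup r U) (hn : n.Coprime r) {c : G} (hc : c ∈ U)
    (h : c ^ n = 1) : c = 1 := by
  obtain ⟨k, hk⟩ := hU ⟨c, hc⟩
  have h1 : c ^ r ^ k = 1 := congrArg Subtype.val hk
  have h2 : orderOf c ∣ Nat.gcd n (r ^ k) := Nat.dvd_gcd (orderOf_dvd_of_pow_eq_one h) (orderOf_dvd_of_pow_eq_one h1)
  rw [Nat.Coprime.gcd_eq_one (Nat.Coprime.pow_right k hn)] at h2
  exact orderOf_eq_one_iff.1 (Nat.dvd_one.1 h2)

theorem conj_pow_eq {b u c : G} (h : b * u * b⁻¹ = u * c) (hc : b * c = c * b) (k : ℕ) :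
    b ^ k * u * (b ^ k)⁻¹ = u * c ^ k := by
  induction k with
  | zero => simp
  | succ k ih =>
    have h1 : b * c ^ k * b⁻¹ = c ^ k := by
      rw [(show Commute b c from hc).pow_right k |>.eq, mul_inv_cancel_right]
    calc b ^ (k + 1) * u * (b ^ (k + 1))⁻¹ = b * (b ^ k * u * (b ^ k)⁻¹) * b⁻¹ := by rw [pow_succ']; group
      _ = (b * u * b⁻¹) * (b * c ^ k * b⁻¹) := by rw [ih]; group
      _ = u * c ^ (k + 1) := by rw [h, h1, pow_succ', mul_assoc]

/-- if `b` has order prime to `r` and moves `u` by an `r`-element commuting with `b`, then it fixes `u` -/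
theorem eq_one_of_conj {r n : ℕ} {U : Subgroup G} (hU : IsPGroup r U) (hn : n.Coprime r) {b u c : G} (hc : c ∈ U)
    (hb : b ^ n = 1) (h : b * u * b⁻¹ = u * c) (hbc : b * c = c * b) : c = 1 := by
  have h1 := conj_pow_eq h hbc n
  rw [hb, one_mul, inv_one, mul_one] at h1
  exact eq_one_of_pow hU hn hc (mul_left_cancel (h1.symm.trans (mul_one u).symm))

theorem pow_card_mem {B : Subgroup G} {b : G} (hb : b ∈ B) : b ^ Nat.card B = 1 := by
  have h : (⟨b, hb⟩ : B) ^ Nat.card B = 1 := pow_card_eq_one'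
  exact congrArg Subtype.val h

variable [Finite G]

/-- `|B| |C_U(B)| ≤ |U| |C_B(u)|` -/
theorem card_mul_le_stab {r : ℕ} {U B : Subgroup G} (hU : IsPGroup r U)
    (hn : ∀ b ∈ B, ∀ u ∈ U, b * u * b⁻¹ ∈ U) (hc : (Nat.card B).Coprime r) {u : G} (hu : u ∈ U) :
    Nat.card B * Nat.card ↥(U ⊓ centralizer (B : Set G)) ≤ Nat.card U * Nat.card ↥(B ⊓ centralizer {u}) := by
  classical
  set S : Subgroup B := (centralizer {u}).subgroupOf B with hS
  have hcS : Nat.card S = Nat.card ↥(B ⊓ centralizer {u}) := by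
    rw [hS, ← Subgroup.inf_subgroupOf_left]
    exact Nat.card_congr (Subgroup.subgroupOfEquivOfLe inf_le_left).toEquiv
  have h1 : Nat.card B = Nat.card (B ⧸ S) * Nat.card S := Subgroup.card_eq_card_quotient_mul_card_subgroup S
  let F : (B ⧸ S) × ↥(U ⊓ centralizer (B : Set G)) → U := fun x =>
    ⟨(x.1.out : G) * u * (x.1.out : G)⁻¹ * x.2, U.mul_mem (hn _ x.1.out.2 _ hu) x.2.2.1⟩
  have hF : Function.Injective F := by
    rintro ⟨x, c, hcU, hcB⟩ ⟨y, d, hdU, hdB⟩ h
    have h2 : (x.out : G) * u * (x.out : G)⁻¹ * c = (y.out : G) * u * (y.out : G)⁻¹ * d := congrArg Subtype.val h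
    set b : G := (y.out : G)⁻¹ * (x.out : G) with hb
    have hbB : b ∈ B := B.mul_mem (B.inv_mem y.out.2) x.out.2
    have hcomm : ∀ z ∈ B, ∀ w, w ∈ centralizer (B : Set G) → z * w = w * z := fun z hz w hw =>
      Subgroup.mem_centralizer_iff.1 hw z hz
    have hdc : d * c⁻¹ ∈ centralizer (B : Set G) := mul_mem hdB (inv_mem hcB)
    have h3 : b * u * b⁻¹ = u * (d * c⁻¹) := by
      have h4 : (x.out : G) * u * (x.out : G)⁻¹ = (y.out : G) * u * (y.out : G)⁻¹ * (d * c⁻¹) := by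
        rw [← mul_assoc, ← h2]; group
      calc b * u * b⁻¹ = (y.out : G)⁻¹ * ((x.out : G) * u * (x.out : G)⁻¹) * (y.out : G) := by rw [hb]; group
        _ = u * ((y.out : G)⁻¹ * (d * c⁻¹) * (y.out : G)) := by rw [h4]; group
        _ = u * (d * c⁻¹) := by
          rw [hcomm _ (B.inv_mem y.out.2) _ hdc]
          group
    have h5 := eq_one_of_conj hU hc (U.mul_mem hdU (U.inv_mem hcU)) (pow_card_mem hbB) h3
      (hcomm _ hbB _ hdc)
    have h6 : d = c := mul_inv_eq_one.1 h5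
    rw [h5, mul_one] at h3
    have h7 : x = y := by
      rw [← QuotientGroup.out_eq' x, ← QuotientGroup.out_eq' y]
      refine (QuotientGroup.eq.2 ?_).symm
      refine Subgroup.mem_subgroupOf.2 (Subgroup.mem_centralizer_singleton_iff.2 ?_)
      exact mul_inv_eq_iff_eq_mul.1 h3
    subst h7
    subst h6
    rfl
  have h2 := Nat.card_le_card_of_injective F hF
  rw [Nat.card_prod] at h2
  calc Nat.card B * Nat.card ↥(U ⊓ centralizer (B : Set G))
      = Nat.card (B ⧸ S) * Nat.card ↥(U ⊓ centralizer (B : Set G)) * Nat.card S := by rw [h1]; ring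
    _ ≤ Nat.card U * Nat.card S := Nat.mul_le_mul_right _ h2
    _ = _ := by rw [hcS]

end basic

section main

universe w

/-- coprime action: trivial on `N` and on `U / N` -/
theorem comm_of_series {G : Type*} [Group G] {r n : ℕ} {U N : Subgroup G} (hU : IsPGroup r U) (hNU : N ≤ U)
    (hn : n.Coprime r) {b : G} (hb : b ^ n = 1) (h1 : ∀ x ∈ N, b * x = x * b)
    (h2 : ∀ u ∈ U, u⁻¹ * (b * u * b⁻¹) ∈ N) : ∀ u ∈ U, b * u = u * b := by
  intro u hu
  have h3 : b * u * b⁻¹ = u * (u⁻¹ * (b * u * b⁻¹)) := by group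
  have h4 := eq_one_of_conj hU hn (hNU (h2 u hu)) hb h3 (h1 _ (h2 u hu))
  rw [h4, mul_one] at h3
  exact mul_inv_eq_iff_eq_mul.1 h3

theorem card_map_mul {G H : Type*} [Group G] [Group H] [Finite G] (f : G →* H) (K : Subgroup G) :
    Nat.card K = Nat.card (K.map f) * Nat.card ↥(K ⊓ f.ker) := by
  have h1 := Subgroup.card_eq_card_quotient_mul_card_subgroup ((f.comp K.subtype).ker)
  have h2 : Nat.card (K ⧸ (f.comp K.subtype).ker) = Nat.card (K.map f) := by
    rw [Nat.card_congr (QuotientGroup.quotientKerEquivRange (f.comp K.subtype)).toEquiv,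
      MonoidHom.range_comp, Subgroup.range_subtype]
  have h3 : Nat.card ((f.comp K.subtype).ker) = Nat.card ↥(K ⊓ f.ker) := by
    have h4 : (f.comp K.subtype).ker = f.ker.subgroupOf K := rfl
    rw [h4, ← Subgroup.inf_subgroupOf_left]
    exact Nat.card_congr (Subgroup.subgroupOfEquivOfLe inf_le_left).toEquiv
  rw [h1, h2, h3]

theorem card_map_of_disjoint {G H : Type*} [Group G] [Group H] [Finite G] (f : G →* H) (K : Subgroup G)
    (h : K ⊓ f.ker = ⊥) : Nat.card (K.map f) = Nat.card K := by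
  rw [card_map_mul f K, h, Subgroup.card_bot, mul_one]

/-- the inequality when `G = U B` -/
theorem card_mul_le_aux (r : ℕ) (hr : r.Prime) (n : ℕ) : ∀ (G : Type w) [Group G] [Finite G] (U B : Subgroup G),
    Nat.card U ≤ n → U.Normal → IsPGroup r U → (∀ a ∈ B, ∀ b ∈ B, a * b = b * a) → (Nat.card B).Coprime r →
    U ⊔ B = ⊤ → Nat.card B * Nat.card ↥(U ⊓ centralizer (B : Set G)) ≤
      Nat.card U * Nat.card ↥(B ⊓ centralizer (U : Set G)) := by
  induction n with
  | zero =>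
    intro G _ _ U B h
    exact absurd (Nat.card_pos (α := U)) (by omega)
  | succ n ih =>
    intro G _ _ U B hcard hN hU hB hc hUB
    by_cases hbot : U = ⊥
    · subst hbot
      have h1 : (B ⊓ centralizer ((⊥ : Subgroup G) : Set G)) = B := by
        rw [inf_eq_left]
        intro b _
        rw [Subgroup.mem_centralizer_iff]
        intro x hx
        rw [Subgroup.mem_bot.1 hx, one_mul, mul_one]
      rw [h1, bot_inf_eq, Subgroup.card_bot, mul_one, one_mul]
    have : Fact r.Prime := ⟨hr⟩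
    have hnt : Nontrivial U := (Subgroup.nontrivial_iff_ne_bot U).2 hbot
    -- a central element
    have hZ := IsPGroup.center_nontrivial hU
    obtain ⟨⟨u, hu⟩, huZ, hu1⟩ := (Subgroup.nontrivial_iff_exists_ne_one _).1 hZ
    have hu1' : u ≠ 1 := fun h => hu1 (Subtype.ext h)
    have huc : ∀ x ∈ U, x * u = u * x := fun x hx => congrArg Subtype.val (Subgroup.mem_center_iff.1 huZ ⟨x, hx⟩)
    -- `N = Z(U) ∩ C(B_u)`
    set Bu : Subgroup G := B ⊓ centralizer {u} with hBu
    set N : Subgroup G := U ⊓ centralizer (U : Set G) ⊓ centralizer (Bu : Set G) with hNdef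
    have huN : u ∈ N := by
      refine Subgroup.mem_inf.2 ⟨Subgroup.mem_inf.2 ⟨hu, Subgroup.mem_centralizer_iff.2 huc⟩,
        Subgroup.mem_centralizer_iff.2 fun b hb => Subgroup.mem_centralizer_singleton_iff.1 hb.2⟩
    have hNU : N ≤ U := inf_le_left.trans inf_le_left
    have hNcU : ∀ x ∈ N, ∀ y ∈ U, y * x = x * y := fun x hx y hy => Subgroup.mem_centralizer_iff.1 hx.1.2 y hy
    have hNcB : ∀ x ∈ N, ∀ y ∈ Bu, y * x = x * y := fun x hx y hy => Subgroup.mem_centralizer_iff.1 hx.2 y hy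
    have hNn : N.Normal := by
      rw [← Subgroup.normalizer_eq_top_iff, eq_top_iff, ← hUB, sup_le_iff]
      have key : ∀ g : G, (∀ x ∈ N, g * x * g⁻¹ ∈ N) → (∀ x ∈ N, g⁻¹ * x * g ∈ N) →
          g ∈ Subgroup.normalizer (N : Set G) := by
        intro g h1 h2
        rw [Subgroup.mem_normalizer_iff]
        intro x
        refine ⟨h1 x, fun h3 => ?_⟩
        have h4 := h2 _ h3
        have h5 : g⁻¹ * (g * x * g⁻¹) * g = x := by group
        rwa [h5] at h4
      have hU1 : ∀ g ∈ U, ∀ x ∈ N, g * x * g⁻¹ ∈ N := by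
        intro g hg x hx
        rw [hNcU x hx g hg, mul_inv_cancel_right]
        exact hx
      have hB1 : ∀ g ∈ B, ∀ x ∈ N, g * x * g⁻¹ ∈ N := by
        intro g hg x hx
        refine Subgroup.mem_inf.2 ⟨Subgroup.mem_inf.2 ⟨hN.conj_mem _ (hNU hx) g, ?_⟩, ?_⟩
        · rw [Subgroup.mem_centralizer_iff]
          intro y hy
          have h3 : g⁻¹ * y * g ∈ U := by simpa using hN.conj_mem y hy g⁻¹
          have h4 := hNcU x hx _ h3
          calc y * (g * x * g⁻¹) = g * ((g⁻¹ * y * g) * x) * g⁻¹ := by group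
            _ = g * x * g⁻¹ * y := by rw [h4]; group
        · rw [Subgroup.mem_centralizer_iff]
          intro y hy
          have h3 := hNcB x hx y hy
          have h4 := hB y hy.1 g hg
          calc y * (g * x * g⁻¹) = (y * g) * x * g⁻¹ := by group
            _ = g * (y * x) * g⁻¹ := by rw [h4]; group
            _ = g * x * (y * g⁻¹) := by rw [h3]; group
            _ = g * x * (g⁻¹ * y) := by
              have : y * g⁻¹ = g⁻¹ * y := by
                rw [eq_inv_mul_iff_mul_eq, ← mul_assoc, ← h4, mul_inv_cancel_right]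
              rw [this]
            _ = g * x * g⁻¹ * y := by group
      refine ⟨fun g hg => key g (hU1 g hg) fun x hx => ?_, fun g hg => key g (hB1 g hg) fun x hx => ?_⟩
      · simpa using hU1 g⁻¹ (inv_mem hg) x hx
      · simpa using hB1 g⁻¹ (inv_mem hg) x hx
    let f := QuotientGroup.mk' N
    have hker : f.ker = N := QuotientGroup.ker_mk' N
    have hf : Function.Surjective f := QuotientGroup.mk'_surjective N
    have hcop : ∀ b ∈ B, ∀ x ∈ U, b = x → b = 1 := fun b hb x hx e =>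
      eq_one_of_pow hU hc (e ▸ hx) (pow_card_mem hb)
    -- orders
    have cU : Nat.card U = Nat.card (U.map f) * Nat.card N := by
      rw [card_map_mul f U, hker, inf_eq_right.2 hNU]
    have cB : Nat.card (B.map f) = Nat.card B := by
      refine card_map_of_disjoint f B ?_
      rw [hker, eq_bot_iff]
      intro x hx
      exact Subgroup.mem_bot.2 (hcop x hx.1 x (hNU hx.2) rfl)
    have hN2 : 2 ≤ Nat.card N := by
      have : Nontrivial N := (Subgroup.nontrivial_iff_exists_ne_one _).2 ⟨u, huN, hu1'⟩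
      exact Finite.one_lt_card
    have hlt : Nat.card (U.map f) ≤ n := by
      have h1 : 0 < Nat.card (U.map f) := Nat.card_pos
      have h2 : Nat.card (U.map f) * 2 ≤ Nat.card U := by rw [cU]; exact Nat.mul_le_mul_left _ hN2
      omega
    have hBc : ∀ a ∈ B.map f, ∀ b ∈ B.map f, a * b = b * a := by
      rintro _ ⟨a, ha, rfl⟩ _ ⟨b, hb, rfl⟩
      rw [← map_mul, ← map_mul, hB a ha b hb]
    have hsup : U.map f ⊔ B.map f = ⊤ := by
      rw [← Subgroup.map_sup, hUB, ← MonoidHom.range_eq_map]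
      exact MonoidHom.range_eq_top.2 hf
    have hIH := ih (G ⧸ N) (U.map f) (B.map f) hlt (hN.map f hf) (hU.map f) hBc (by rw [cB]; exact hc) hsup
    rw [cB] at hIH
    set B1 : Subgroup G := B ⊓ (centralizer ((U.map f : Subgroup (G ⧸ N)) : Set (G ⧸ N))).comap f with hB1
    have hB1B : B1 ≤ B := inf_le_left
    have c1 : Nat.card ↥(B.map f ⊓ centralizer ((U.map f : Subgroup (G ⧸ N)) : Set (G ⧸ N))) ≤ Nat.card B1 := by
      have h1 : B.map f ⊓ centralizer ((U.map f : Subgroup (G ⧸ N)) : Set (G ⧸ N)) = B1.map f := by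
        ext y
        constructor
        · rintro ⟨⟨b, hb, rfl⟩, h2⟩
          exact ⟨b, ⟨hb, h2⟩, rfl⟩
        · rintro ⟨b, ⟨hb, h2⟩, rfl⟩
          exact ⟨⟨b, hb, rfl⟩, h2⟩
      rw [h1]
      rw [card_map_mul f B1]
      exact Nat.le_mul_of_pos_right _ Nat.card_pos
    have cB1 : (Nat.card B1).Coprime r := Nat.Coprime.coprime_dvd_left (Subgroup.card_dvd_of_le hB1B) hc
    have hD := card_mul_le_stab (U := N) (B := B1) (hU.to_le hNU)
      (fun b hb x hx => hNn.conj_mem x hx b) cB1 huN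
    have c2 : Nat.card ↥(B1 ⊓ centralizer {u}) ≤ Nat.card ↥(B ⊓ centralizer (U : Set G)) := by
      refine Subgroup.card_le_of_le fun b hb => ?_
      have hbB : b ∈ B := hB1B hb.1
      refine Subgroup.mem_inf.2 ⟨hbB, Subgroup.mem_centralizer_iff.2 fun x hx => ?_⟩
      refine (comm_of_series hU hNU hc (pow_card_mem hbB) ?_ ?_ x hx).symm
      · intro y hy
        exact hNcB y hy b ⟨hbB, hb.2⟩
      · intro y hy
        have h1 : f b ∈ centralizer ((U.map f : Subgroup (G ⧸ N)) : Set (G ⧸ N)) := hb.1.2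
        have h2 := Subgroup.mem_centralizer_iff.1 h1 (f y) ⟨y, hy, rfl⟩
        rw [← hker, MonoidHom.mem_ker, map_mul, map_mul, map_mul, map_inv, map_inv, ← h2]
        group
    have c3 : Nat.card ↥(U ⊓ centralizer (B : Set G)) ≤
        Nat.card ↥(U.map f ⊓ centralizer ((B.map f : Subgroup (G ⧸ N)) : Set (G ⧸ N))) *
          Nat.card ↥(N ⊓ centralizer (B1 : Set G)) := by
      rw [card_map_mul f (U ⊓ centralizer (B : Set G))]
      refine Nat.mul_le_mul (Subgroup.card_le_of_le ?_) (Subgroup.card_le_of_le ?_)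
      · rintro _ ⟨x, ⟨hx, hx'⟩, rfl⟩
        refine Subgroup.mem_inf.2 ⟨⟨x, hx, rfl⟩, Subgroup.mem_centralizer_iff.2 ?_⟩
        rintro _ ⟨b, hb, rfl⟩
        rw [← map_mul, ← map_mul, Subgroup.mem_centralizer_iff.1 hx' b hb]
      · rintro x ⟨⟨hx, hx'⟩, hx2⟩
        rw [hker] at hx2
        refine Subgroup.mem_inf.2 ⟨hx2, Subgroup.mem_centralizer_iff.2 fun b hb => ?_⟩
        exact Subgroup.mem_centralizer_iff.1 hx' b (hB1B hb)
    -- the conclusion
    calc Nat.card B * Nat.card ↥(U ⊓ centralizer (B : Set G))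
        ≤ Nat.card B * (Nat.card ↥(U.map f ⊓ centralizer ((B.map f : Subgroup (G ⧸ N)) : Set (G ⧸ N))) *
          Nat.card ↥(N ⊓ centralizer (B1 : Set G))) := Nat.mul_le_mul_left _ c3
      _ = (Nat.card B * Nat.card ↥(U.map f ⊓ centralizer ((B.map f : Subgroup (G ⧸ N)) : Set (G ⧸ N)))) *
          Nat.card ↥(N ⊓ centralizer (B1 : Set G)) := by ring
      _ ≤ (Nat.card (U.map f) * Nat.card B1) * Nat.card ↥(N ⊓ centralizer (B1 : Set G)) :=
          Nat.mul_le_mul_right _ (hIH.trans (Nat.mul_le_mul_left _ c1))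
      _ = Nat.card (U.map f) * (Nat.card B1 * Nat.card ↥(N ⊓ centralizer (B1 : Set G))) := by ring
      _ ≤ Nat.card (U.map f) * (Nat.card N * Nat.card ↥(B1 ⊓ centralizer {u})) := Nat.mul_le_mul_left _ hD
      _ ≤ Nat.card (U.map f) * (Nat.card N * Nat.card ↥(B ⊓ centralizer (U : Set G))) :=
          Nat.mul_le_mul_left _ (Nat.mul_le_mul_left _ c2)
      _ = Nat.card U * Nat.card ↥(B ⊓ centralizer (U : Set G)) := by rw [cU]; ring

/-- the order of a subgroup of a subgroup -/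
theorem card_subgroupOf {G : Type*} [Group G] {H K : Subgroup G} (h : K ≤ H) :
    Nat.card (K.subgroupOf H) = Nat.card K := Nat.card_congr (Subgroup.subgroupOfEquivOfLe h).toEquiv

theorem inf_cent_subgroupOf {G : Type*} [Group G] {H K L : Subgroup G} (hK : K ≤ H) (hL : L ≤ H) :
    Nat.card ↥(K.subgroupOf H ⊓ centralizer ((L.subgroupOf H : Subgroup H) : Set H)) =
      Nat.card ↥(K ⊓ centralizer (L : Set G)) := by
  have h1 : K.subgroupOf H ⊓ centralizer ((L.subgroupOf H : Subgroup H) : Set H) =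
      (K ⊓ centralizer (L : Set G)).subgroupOf H := by
    ext x
    rw [Subgroup.mem_inf, Subgroup.mem_subgroupOf, Subgroup.mem_subgroupOf, Subgroup.mem_inf,
      Subgroup.mem_centralizer_iff, Subgroup.mem_centralizer_iff]
    refine and_congr_right fun _ => ⟨fun h y hy => ?_, fun h y hy => ?_⟩
    · exact congrArg Subtype.val (h ⟨y, hL hy⟩ (Subgroup.mem_subgroupOf.2 hy))
    · exact Subtype.ext (h y (Subgroup.mem_subgroupOf.1 hy))
  rw [h1, card_subgroupOf (inf_le_left.trans hK)]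

section two

variable {G : Type*} [Group G] [Finite G] {r : ℕ} (hr : r.Prime) {U B : Subgroup G} (hU : IsPGroup r U)
  (hn : ∀ b ∈ B, ∀ u ∈ U, b * u * b⁻¹ ∈ U) (hB : ∀ a ∈ B, ∀ b ∈ B, a * b = b * a) (hc : (Nat.card B).Coprime r)

omit [Finite G] in
theorem normal_sup_of {U B : Subgroup G} {M : Subgroup G}
    (h1 : ∀ x ∈ U, ∀ m ∈ M, x * m * x⁻¹ ∈ M) (h2 : ∀ b ∈ B, ∀ m ∈ M, b * m * b⁻¹ ∈ M) :
    (M.subgroupOf (U ⊔ B)).Normal := by
  have h3 : U ⊔ B ≤ Subgroup.normalizer (M : Set G) := by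
    have key : ∀ g : G, (∀ x ∈ M, g * x * g⁻¹ ∈ M) → (∀ x ∈ M, g⁻¹ * x * g ∈ M) →
        g ∈ Subgroup.normalizer (M : Set G) := by
      intro g h1 h2
      rw [Subgroup.mem_normalizer_iff]
      intro x
      refine ⟨h1 x, fun h3 => ?_⟩
      have h4 := h2 _ h3
      have h5 : g⁻¹ * (g * x * g⁻¹) * g = x := by group
      rwa [h5] at h4
    refine sup_le (fun g hg => key g (h1 g hg) fun x hx => ?_) (fun g hg => key g (h2 g hg) fun x hx => ?_)
    · simpa using h1 g⁻¹ (inv_mem hg) x hx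
    · simpa using h2 g⁻¹ (inv_mem hg) x hx
  exact ⟨fun x hx g => (Subgroup.mem_normalizer_iff.1 (h3 g.2) _).1 hx⟩

include hr hU hn hB hc in
/-- **`|B| |C_U(B)| ≤ |U| |C_B(U)|`** -/
theorem card_mul_le : Nat.card B * Nat.card ↥(U ⊓ centralizer (B : Set G)) ≤
    Nat.card U * Nat.card ↥(B ⊓ centralizer (U : Set G)) := by
  have h1 := card_mul_le_aux r hr (Nat.card (U.subgroupOf (U ⊔ B))) ↥(U ⊔ B) (U.subgroupOf (U ⊔ B))
    (B.subgroupOf (U ⊔ B)) le_rfl
    (normal_sup_of (fun x hx m hm => U.mul_mem (U.mul_mem hx hm) (U.inv_mem hx)) hn)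
    (hU.comap_of_injective _ (Subgroup.subtype_injective _))
    (fun a ha b hb => Subtype.ext (hB _ ha _ hb)) (by rw [card_subgroupOf le_sup_right]; exact hc)
    (by rw [← Subgroup.subgroupOf_sup le_sup_left le_sup_right, Subgroup.subgroupOf_self])
  rwa [card_subgroupOf le_sup_left, card_subgroupOf le_sup_right, inf_cent_subgroupOf le_sup_left le_sup_right,
    inf_cent_subgroupOf le_sup_right le_sup_left] at h1

include hr hU hn hB hc in
/-- **the inequality for a section**: `|B| |C_U(B)| |M| ≤ |U| |M ∩ C(B)| |C_B(U/M)|` -/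
theorem card_mul_section {M : Subgroup G} (hMU : M ≤ U) (h1 : ∀ x ∈ U, ∀ m ∈ M, x * m * x⁻¹ ∈ M)
    (h2 : ∀ b ∈ B, ∀ m ∈ M, b * m * b⁻¹ ∈ M) {k : ℕ}
    (hk : ∀ C : Subgroup G, C ≤ B → (∀ c ∈ C, ∀ u ∈ U, u⁻¹ * (c * u * c⁻¹) ∈ M) → Nat.card C ≤ k) :
    Nat.card B * Nat.card ↥(U ⊓ centralizer (B : Set G)) * Nat.card M ≤
      Nat.card U * Nat.card ↥(M ⊓ centralizer (B : Set G)) * k := by
  have hUH : U ≤ U ⊔ B := le_sup_left
  have hBH : B ≤ U ⊔ B := le_sup_right
  have hMH : M ≤ U ⊔ B := hMU.trans hUH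
  have hNn : (M.subgroupOf (U ⊔ B)).Normal := normal_sup_of h1 h2
  set H : Subgroup G := U ⊔ B with hH
  let f := QuotientGroup.mk' (M.subgroupOf H)
  have hker : f.ker = M.subgroupOf H := QuotientGroup.ker_mk' _
  have hf : Function.Surjective f := QuotientGroup.mk'_surjective _
  have hU' : IsPGroup r (U.subgroupOf H) := hU.comap_of_injective _ (Subgroup.subtype_injective _)
  have hUn : (U.subgroupOf H).Normal :=
    normal_sup_of (fun x hx m hm => U.mul_mem (U.mul_mem hx hm) (U.inv_mem hx)) hn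
  have cM : Nat.card (M.subgroupOf H) = Nat.card M := card_subgroupOf hMH
  have hMU' : M.subgroupOf H ≤ U.subgroupOf H := fun x hx => hMU hx
  have cU : Nat.card U = Nat.card ((U.subgroupOf H).map f) * Nat.card M := by
    rw [← card_subgroupOf hUH, card_map_mul f (U.subgroupOf H), hker, inf_eq_right.2 hMU', cM]
  have cB : Nat.card ((B.subgroupOf H).map f) = Nat.card B := by
    rw [card_map_of_disjoint f, card_subgroupOf hBH]
    rw [hker, eq_bot_iff]
    intro x hx
    refine Subgroup.mem_bot.2 (Subtype.ext ?_)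
    exact eq_one_of_pow hU hc (hMU (Subgroup.mem_subgroupOf.1 hx.2)) (pow_card_mem (Subgroup.mem_subgroupOf.1 hx.1))
  have hBc : ∀ a ∈ (B.subgroupOf H).map f, ∀ b ∈ (B.subgroupOf H).map f, a * b = b * a := by
    rintro _ ⟨a, ha, rfl⟩ _ ⟨b, hb, rfl⟩
    rw [← map_mul, ← map_mul]
    exact congrArg f (Subtype.ext (hB _ ha _ hb))
  have hmain := card_mul_le hr (U := (U.subgroupOf H).map f) (B := (B.subgroupOf H).map f) (hU'.map f)
    (fun b _ u hu => (hUn.map f hf).conj_mem u hu b) hBc (by rw [cB]; exact hc)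
  rw [cB] at hmain
  have c1 : Nat.card ↥((B.subgroupOf H).map f ⊓
      centralizer (((U.subgroupOf H).map f : Subgroup (H ⧸ M.subgroupOf H)) : Set (H ⧸ M.subgroupOf H))) ≤ k := by
    set C : Subgroup H := B.subgroupOf H ⊓
      (centralizer (((U.subgroupOf H).map f : Subgroup (H ⧸ M.subgroupOf H)) : Set (H ⧸ M.subgroupOf H))).comap f
      with hC
    have h3 : (B.subgroupOf H).map f ⊓
        centralizer (((U.subgroupOf H).map f : Subgroup (H ⧸ M.subgroupOf H)) : Set (H ⧸ M.subgroupOf H)) =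
          C.map f := by
      ext y
      constructor
      · rintro ⟨⟨b, hb, rfl⟩, h2⟩
        exact ⟨b, ⟨hb, h2⟩, rfl⟩
      · rintro ⟨b, ⟨hb, h2⟩, rfl⟩
        exact ⟨⟨b, hb, rfl⟩, h2⟩
    rw [h3]
    have h4 : Nat.card (C.map f) ≤ Nat.card C := by
      rw [card_map_mul f C]
      exact Nat.le_mul_of_pos_right _ Nat.card_pos
    have h5 : Nat.card C = Nat.card (C.map H.subtype) :=
      Nat.card_congr (Subgroup.equivMapOfInjective C _ (Subgroup.subtype_injective H)).toEquiv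
    refine h4.trans (h5.le.trans (hk _ ?_ ?_))
    · rintro _ ⟨x, hx, rfl⟩
      exact hx.1
    · rintro _ ⟨x, hx, rfl⟩ u hu
      have h6 := Subgroup.mem_centralizer_iff.1 hx.2 (f ⟨u, hUH hu⟩) ⟨⟨u, hUH hu⟩, Subgroup.mem_subgroupOf.2 hu, rfl⟩
      have h7 : (⟨u, hUH hu⟩ : H)⁻¹ * (x * ⟨u, hUH hu⟩ * x⁻¹) ∈ M.subgroupOf H := by
        rw [← hker, MonoidHom.mem_ker, map_mul, map_mul, map_mul, map_inv, map_inv, ← h6]
        group
      exact h7
  have c2 : Nat.card ↥(U ⊓ centralizer (B : Set G)) ≤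
      Nat.card ↥((U.subgroupOf H).map f ⊓
        centralizer (((B.subgroupOf H).map f : Subgroup (H ⧸ M.subgroupOf H)) : Set (H ⧸ M.subgroupOf H))) *
          Nat.card ↥(M ⊓ centralizer (B : Set G)) := by
    rw [← inf_cent_subgroupOf hUH hBH, ← inf_cent_subgroupOf hMH hBH,
      card_map_mul f (U.subgroupOf H ⊓ centralizer ((B.subgroupOf H : Subgroup H) : Set H))]
    refine Nat.mul_le_mul (Subgroup.card_le_of_le ?_) (Subgroup.card_le_of_le ?_)
    · rintro _ ⟨x, ⟨hx, hx'⟩, rfl⟩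
      refine Subgroup.mem_inf.2 ⟨⟨x, hx, rfl⟩, Subgroup.mem_centralizer_iff.2 ?_⟩
      rintro _ ⟨b, hb, rfl⟩
      rw [← map_mul, ← map_mul, Subgroup.mem_centralizer_iff.1 hx' b hb]
    · rintro x ⟨⟨hx, hx'⟩, hx2⟩
      rw [hker] at hx2
      exact Subgroup.mem_inf.2 ⟨hx2, hx'⟩
  calc Nat.card B * Nat.card ↥(U ⊓ centralizer (B : Set G)) * Nat.card M
      ≤ Nat.card B * (Nat.card ↥((U.subgroupOf H).map f ⊓
        centralizer (((B.subgroupOf H).map f : Subgroup (H ⧸ M.subgroupOf H)) : Set (H ⧸ M.subgroupOf H))) *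
          Nat.card ↥(M ⊓ centralizer (B : Set G))) * Nat.card M :=
        Nat.mul_le_mul_right _ (Nat.mul_le_mul_left _ c2)
    _ = (Nat.card B * Nat.card ↥((U.subgroupOf H).map f ⊓
        centralizer (((B.subgroupOf H).map f : Subgroup (H ⧸ M.subgroupOf H)) : Set (H ⧸ M.subgroupOf H)))) *
          (Nat.card ↥(M ⊓ centralizer (B : Set G)) * Nat.card M) := by ring
    _ ≤ (Nat.card ((U.subgroupOf H).map f) * k) * (Nat.card ↥(M ⊓ centralizer (B : Set G)) * Nat.card M) :=
        Nat.mul_le_mul_right _ (hmain.trans (Nat.mul_le_mul_left _ c1))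
    _ = _ := by rw [cU]; ring

include hr hU hn hB hc in
/-- **the square inequality**: `|B|² |C_U(B)| ≤ |U| |C_B(U/M)| |C_B(M)|` -/
theorem card_sq_mul_le {M : Subgroup G} (hMU : M ≤ U) (h1 : ∀ x ∈ U, ∀ m ∈ M, x * m * x⁻¹ ∈ M)
    (h2 : ∀ b ∈ B, ∀ m ∈ M, b * m * b⁻¹ ∈ M) {k : ℕ}
    (hk : ∀ C : Subgroup G, C ≤ B → (∀ c ∈ C, ∀ u ∈ U, u⁻¹ * (c * u * c⁻¹) ∈ M) → Nat.card C ≤ k) :
    Nat.card B ^ 2 * Nat.card ↥(U ⊓ centralizer (B : Set G)) ≤
      Nat.card U * k * Nat.card ↥(B ⊓ centralizer (M : Set G)) := by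
  have h3 := card_mul_section hr hU hn hB hc hMU h1 h2 hk
  have h4 := card_mul_le hr (hU.to_le hMU) h2 hB hc
  have hM : 0 < Nat.card M := Nat.card_pos
  refine Nat.le_of_mul_le_mul_right (?_ : _ * Nat.card M ≤ _ * Nat.card M) hM
  calc Nat.card B ^ 2 * Nat.card ↥(U ⊓ centralizer (B : Set G)) * Nat.card M
      = Nat.card B * (Nat.card B * Nat.card ↥(U ⊓ centralizer (B : Set G)) * Nat.card M) := by ring
    _ ≤ Nat.card B * (Nat.card U * Nat.card ↥(M ⊓ centralizer (B : Set G)) * k) := Nat.mul_le_mul_left _ h3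
    _ = (Nat.card B * Nat.card ↥(M ⊓ centralizer (B : Set G))) * (Nat.card U * k) := by ring
    _ ≤ (Nat.card M * Nat.card ↥(B ⊓ centralizer (M : Set G))) * (Nat.card U * k) := Nat.mul_le_mul_right _ h4
    _ = _ := by ring

end two

end main

end Cfsg.Agent.H605.Ab
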