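import Cfsg.Agent.H605.Ab.Cop

/-!
# The order of an abelian subgroup normalising an `r`-group (helper605, for S2501)

`Dat r A U` : `A` is an abelian group normalising the `r`-group `U`, all `r`-elements of `A` are in `U`, and
`C_A(U) ≤ U` (e.g. `A ≤ P_J` a parabolic subgroup, `U = O_r(P_J)` and the `r`-part of `A` in `U`: Borel-Tits).
Then, with `M ≤ U` normalised by `U` and `A`:

* `Dat.card_le` : `|A| ≤ |U|`;
* `Dat.card_mul_le` : `|A| |M| ≤ |U| |A ∩ U|` if `M ≤ ⁅U, U⁆`;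
* `Dat.card_sq_le` : `|A|² ≤ |U| |A ∩ U|` if `M ≤ ⁅U, U⁆` and `C_U(M) ≤ M`;
* `Dat.card_sq_le'` : `|A|² ≤ |U| |A ∩ U| k` if `C_A(M) ≤ U` and every `r'`-subgroup of `A` trivial on `U / M` has order `≤ k`.
-/

set_option autoImplicit false

namespace Cfsg.Agent.H605.Ab

open Subgroup

variable {G : Type*} [Group G] [Finite G]

/-- a coset of an `r`-group invariant under an element of prime order `s ≠ r` contains a fixed element -/
theorem exists_fixed {r s : ℕ} (hr : r.Prime) (hs : s.Prime) (hrs : s ≠ r) {M : Subgroup G} (hM : IsPGroup r M)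
    {c u : G} (hcs : c ^ s = 1) (hcM : ∀ x ∈ M, c * x * c⁻¹ ∈ M) (hu : u⁻¹ * (c * u * c⁻¹) ∈ M) :
    ∃ m ∈ M, c * (u * m) = (u * m) * c := by
  classical
  have : Fact s.Prime := ⟨hs⟩
  have : Fact r.Prime := ⟨hr⟩
  let X := {x : G // u⁻¹ * x ∈ M}
  let σ : X → X := fun x => ⟨c * x.1 * c⁻¹, by
    have h1 : u⁻¹ * (c * x.1 * c⁻¹) = (u⁻¹ * (c * u * c⁻¹)) * (c * (u⁻¹ * x.1) * c⁻¹) := by group
    rw [h1]
    exact M.mul_mem hu (hcM _ x.2)⟩
  have hσ : ∀ (k : ℕ) (x : X), ((σ^[k]) x).1 = c ^ k * x.1 * (c ^ k)⁻¹ := by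
    intro k
    induction k with
    | zero => intro x; simp
    | succ k ih =>
      intro x
      rw [Function.iterate_succ_apply', pow_succ']
      show c * ((σ^[k]) x).1 * c⁻¹ = _
      rw [ih]
      group
  have hX : Nat.card X = Nat.card M := by
    refine Nat.card_congr ⟨fun x => ⟨u⁻¹ * x.1, x.2⟩, fun m => ⟨u * m.1, by simp⟩, fun x => ?_, fun m => ?_⟩
    · exact Subtype.ext (by simp)
    · exact Subtype.ext (by simp)
  have : Fintype X := Fintype.ofFinite X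
  let τ : Function.End X := σ
  have hσ1 : τ ^ s ^ 1 = 1 := by
    rw [pow_one]
    funext x
    apply Subtype.ext
    show ((σ^[s]) x).1 = x.1
    rw [hσ, hcs]
    simp
  have h1 := Equiv.Perm.card_fixedPoints_modEq (f := τ) (p := s) (n := 1) hσ1
  have h2 : ¬ s ∣ Fintype.card X := by
    rw [← Nat.card_eq_fintype_card, hX]
    obtain ⟨k, hk⟩ := (IsPGroup.iff_card).1 hM
    rw [hk]
    intro h3
    exact hrs ((Nat.prime_dvd_prime_iff_eq hs hr).1 (hs.dvd_of_dvd_pow h3))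
  have h3 : (Function.fixedPoints (σ : X → X)).Nonempty := by
    by_contra h4
    rw [Set.not_nonempty_iff_eq_empty] at h4
    apply h2
    have h5 : Fintype.card (Function.fixedPoints (σ : X → X)) = 0 := by
      rw [Fintype.card_eq_zero_iff, Set.isEmpty_coe_sort]
      exact h4
    have h6 : Fintype.card X ≡ 0 [MOD s] := by
      rw [← h5]
      exact h1
    exact (Nat.modEq_zero_iff_dvd).1 h6
  obtain ⟨x, hx⟩ := h3
  refine ⟨u⁻¹ * x.1, x.2, ?_⟩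
  have h4 : c * x.1 * c⁻¹ = x.1 := congrArg Subtype.val hx
  rw [mul_inv_cancel_left]
  exact mul_inv_eq_iff_eq_mul.1 h4

/-- an element of prime order `≠ r` trivial on `U / M`, `M ≤ ⁅U, U⁆`, centralises the `r`-group `U` -/
theorem comm_of_frattini {r s : ℕ} (hr : r.Prime) (hs : s.Prime) (hrs : s ≠ r) {U M : Subgroup G} (hU : IsPGroup r U)
    (hMU : M ≤ ⁅U, U⁆) {c : G} (hcs : c ^ s = 1) (hcM : ∀ x ∈ M, c * x * c⁻¹ ∈ M)
    (hu : ∀ u ∈ U, u⁻¹ * (c * u * c⁻¹) ∈ M) : ∀ u ∈ U, c * u = u * c := by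
  have : Fact r.Prime := ⟨hr⟩
  have hUU : ⁅U, U⁆ ≤ U := Subgroup.commutator_le_self U
  have hM : IsPGroup r M := hU.to_le (hMU.trans hUU)
  have h1 : (centralizer {c}).subgroupOf U ⊔ commutator U = ⊤ := by
    rw [eq_top_iff]
    intro x _
    obtain ⟨m, hm, h2⟩ := exists_fixed hr hs hrs hM hcs hcM (hu x x.2)
    have hmU : m ∈ U := hUU (hMU hm)
    have h3 : x = (x * ⟨m, hmU⟩) * (⟨m, hmU⟩ : U)⁻¹ := by group
    rw [h3]
    refine mul_mem (Subgroup.mem_sup_left ?_) (Subgroup.mem_sup_right (inv_mem ?_))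
    · exact Subgroup.mem_subgroupOf.2 (Subgroup.mem_centralizer_singleton_iff.2 h2.symm)
    · have h4 : (⟨m, hmU⟩ : U) ∈ (⁅U, U⁆).subgroupOf U := Subgroup.mem_subgroupOf.2 (hMU hm)
      have h5 : (⁅U, U⁆).subgroupOf U = commutator U := by
        rw [← Subgroup.map_subtype_commutator U, Subgroup.subgroupOf,
          Subgroup.comap_map_eq_self_of_injective (Subgroup.subtype_injective U)]
      rwa [h5] at h4
  have h2 : (centralizer {c}).subgroupOf U ⊔ frattini U = ⊤ :=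
    eq_top_iff.2 (h1.symm.le.trans (sup_le_sup_left (Lib.FrattiniBasic.commutator_le_frattini hU) _))
  have h3 := frattini_nongenerating h2
  intro u hu'
  have h4 : (⟨u, hu'⟩ : U) ∈ (centralizer {c}).subgroupOf U := by rw [h3]; exact Subgroup.mem_top _
  exact (Subgroup.mem_centralizer_singleton_iff.1 (Subgroup.mem_subgroupOf.1 h4)).symm

/-! ### the configuration -/

/-- `A` abelian, normalising the `r`-group `U`, which contains the `r`-elements of `A` and `C_A(U)` -/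
structure Dat (r : ℕ) (A U : Subgroup G) : Prop where
  pr : r.Prime
  comm : ∀ a ∈ A, ∀ b ∈ A, a * b = b * a
  pU : IsPGroup r U
  norm : ∀ a ∈ A, ∀ u ∈ U, a * u * a⁻¹ ∈ U
  mem : ∀ a ∈ A, ∀ k : ℕ, a ^ r ^ k = 1 → a ∈ U
  cent : ∀ a ∈ A, (∀ u ∈ U, a * u = u * a) → a ∈ U

namespace Dat

variable {r : ℕ} {A U : Subgroup G} (h : Dat r A U)

include h

/-- the `r'`-part of `A` -/
theorem exists_part : ∃ B : Subgroup G, B ≤ A ∧ (Nat.card B).Coprime r ∧ Nat.card A = Nat.card B * Nat.card ↥(A ⊓ U) ∧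
    (∀ b ∈ B, b ∈ U → b = 1) := by
  classical
  have hr := h.pr
  obtain ⟨k, m, hm, hA⟩ := Nat.exists_eq_pow_mul_and_not_dvd (Nat.card_pos (α := A)).ne' r hr.ne_one
  let _ : CommGroup A := { (inferInstance : Group A) with mul_comm := fun a b => Subtype.ext (h.comm _ a.2 _ b.2) }
  let φ : A →* A := powMonoidHom (r ^ k)
  have hφ : ∀ a : A, φ a = a ^ r ^ k := fun a => rfl
  have hcop : m.Coprime r := (Nat.Prime.coprime_iff_not_dvd hr).2 hm |>.symm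
  have hker : φ.ker = U.subgroupOf A := by
    ext a
    rw [MonoidHom.mem_ker, hφ, Subgroup.mem_subgroupOf]
    constructor
    · intro h1
      exact h.mem _ a.2 k (by simpa using congrArg Subtype.val h1)
    · intro h1
      apply Subtype.ext
      have h2 : ((a : G) ^ r ^ k) ^ m = 1 := by
        rw [← pow_mul, ← hA]
        exact pow_card_mem a.2
      have h3 : (a : G) ^ r ^ k ∈ U := U.pow_mem h1 _
      simpa using eq_one_of_pow h.pU hcop h3 h2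
  let B : Subgroup G := φ.range.map A.subtype
  have hBA : B ≤ A := by
    rintro _ ⟨a, -, rfl⟩
    exact a.2
  have hBm : ∀ b ∈ B, b ^ m = 1 := by
    rintro _ ⟨_, ⟨a, rfl⟩, rfl⟩
    have h1 : (φ a) ^ m = 1 := by
      rw [hφ, ← pow_mul, ← hA]
      exact Subtype.ext (pow_card_mem a.2)
    simpa using congrArg Subtype.val h1
  have hcB : (Nat.card B).Coprime r := by
    refine ((Nat.Prime.coprime_iff_not_dvd hr).2 fun hd => ?_).symm
    have : Fact r.Prime := ⟨hr⟩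
    obtain ⟨b, hb⟩ := exists_prime_orderOf_dvd_card' (G := B) r hd
    have h1 : r ∣ m := by
      rw [← hb, ← Subgroup.orderOf_coe]
      exact orderOf_dvd_of_pow_eq_one (hBm b b.2)
    exact hm h1
  have hc1 : Nat.card B = Nat.card φ.range :=
    Nat.card_congr (Subgroup.equivMapOfInjective _ _ (Subgroup.subtype_injective A)).symm.toEquiv
  have hc2 : Nat.card ↥(A ⊓ U) = Nat.card φ.ker := by
    rw [hker, inf_comm, ← Subgroup.inf_subgroupOf_right U A]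
    exact (Nat.card_congr (Subgroup.subgroupOfEquivOfLe inf_le_right).toEquiv).symm
  refine ⟨B, hBA, hcB, ?_, fun b hb hbU => ?_⟩
  · rw [hc1, hc2, mul_comm, ← Subgroup.card_mul_index φ.ker, Subgroup.index_ker]
  · exact eq_one_of_pow h.pU hcop hbU (hBm b hb)

/-- **(ii)** -/
theorem card_le : Nat.card A ≤ Nat.card U := by
  obtain ⟨B, hBA, hcB, hcard, hBU⟩ := h.exists_part
  have h1 := card_mul_le h.pr h.pU (fun b hb => h.norm b (hBA hb)) (fun a ha b hb => h.comm a (hBA ha) b (hBA hb)) hcB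
  have h2 : B ⊓ centralizer (U : Set G) = ⊥ := by
    rw [eq_bot_iff]
    intro b hb
    exact Subgroup.mem_bot.2 (hBU b hb.1 (h.cent b (hBA hb.1) fun u hu =>
      (Subgroup.mem_centralizer_iff.1 hb.2 u hu).symm))
  rw [h2, Subgroup.card_bot, mul_one] at h1
  have h3 : Nat.card ↥(A ⊓ U) ≤ Nat.card ↥(U ⊓ centralizer (B : Set G)) :=
    Subgroup.card_le_of_le fun x hx => Subgroup.mem_inf.2 ⟨hx.2, Subgroup.mem_centralizer_iff.2 fun b hb =>
      h.comm b (hBA hb) x hx.1⟩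
  rw [hcard]
  exact (Nat.mul_le_mul_left _ h3).trans h1

variable {M : Subgroup G}

/-- a subgroup of the `r'`-part trivial on `U / M`, `M ≤ ⁅U, U⁆`, is trivial -/
theorem card_le_one (hM : M ≤ ⁅U, U⁆) (h2 : ∀ a ∈ A, ∀ m ∈ M, a * m * a⁻¹ ∈ M) {B : Subgroup G} (hBA : B ≤ A)
    (hcB : (Nat.card B).Coprime r) (hBU : ∀ b ∈ B, b ∈ U → b = 1) {C : Subgroup G} (hC : C ≤ B)
    (hc : ∀ c ∈ C, ∀ u ∈ U, u⁻¹ * (c * u * c⁻¹) ∈ M) : Nat.card C ≤ 1 := by
  by_contra h1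
  obtain ⟨s, hs, hsC⟩ := Nat.exists_prime_and_dvd (n := Nat.card C) (by omega)
  have : Fact s.Prime := ⟨hs⟩
  obtain ⟨⟨c, hcC⟩, hcs⟩ := exists_prime_orderOf_dvd_card' (G := C) s hsC
  rw [Subgroup.orderOf_mk] at hcs
  have hrs : s ≠ r := by
    rintro rfl
    have h3 : s ∣ Nat.gcd (Nat.card B) s := Nat.dvd_gcd (hsC.trans (Subgroup.card_dvd_of_le hC)) dvd_rfl
    rw [hcB.gcd_eq_one] at h3
    exact hs.one_lt.ne' (Nat.dvd_one.1 h3)
  have hcA : c ∈ A := hBA (hC hcC)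
  have h4 := comm_of_frattini h.pr hs hrs h.pU hM (by rw [← hcs]; exact pow_orderOf_eq_one c) (h2 c hcA) (hc c hcC)
  have h5 := hBU c (hC hcC) (h.cent c hcA h4)
  rw [h5, orderOf_one] at hcs
  exact hs.one_lt.ne hcs

/-- **(i)** `|A| |M| ≤ |U| |A ∩ U|` -/
theorem card_mul_le (hM : M ≤ ⁅U, U⁆) (h1 : ∀ x ∈ U, ∀ m ∈ M, x * m * x⁻¹ ∈ M)
    (h2 : ∀ a ∈ A, ∀ m ∈ M, a * m * a⁻¹ ∈ M) :
    Nat.card A * Nat.card M ≤ Nat.card U * Nat.card ↥(A ⊓ U) := by
  obtain ⟨B, hBA, hcB, hcard, hBU⟩ := h.exists_part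
  have hMU : M ≤ U := hM.trans (Subgroup.commutator_le_self U)
  have h3 := card_mul_section h.pr h.pU (fun b hb => h.norm b (hBA hb))
    (fun a ha b hb => h.comm a (hBA ha) b (hBA hb)) hcB hMU h1 (fun b hb => h2 b (hBA hb)) (k := 1)
    (fun C hC hc => h.card_le_one hM h2 hBA hcB hBU hC hc)
  have h4 : Nat.card ↥(M ⊓ centralizer (B : Set G)) ≤ Nat.card ↥(U ⊓ centralizer (B : Set G)) :=
    Subgroup.card_le_of_le (inf_le_inf_right _ hMU)
  have h5 : Nat.card B * Nat.card M ≤ Nat.card U := by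
    have h6 : 0 < Nat.card ↥(U ⊓ centralizer (B : Set G)) := Nat.card_pos
    refine Nat.le_of_mul_le_mul_right (?_ : _ * Nat.card ↥(U ⊓ centralizer (B : Set G)) ≤ _ *
      Nat.card ↥(U ⊓ centralizer (B : Set G))) h6
    calc Nat.card B * Nat.card M * Nat.card ↥(U ⊓ centralizer (B : Set G))
        = Nat.card B * Nat.card ↥(U ⊓ centralizer (B : Set G)) * Nat.card M := by ring
      _ ≤ Nat.card U * Nat.card ↥(M ⊓ centralizer (B : Set G)) * 1 := h3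
      _ ≤ _ := by rw [mul_one]; exact Nat.mul_le_mul_left _ h4
  rw [hcard]
  calc Nat.card B * Nat.card ↥(A ⊓ U) * Nat.card M = Nat.card B * Nat.card M * Nat.card ↥(A ⊓ U) := by ring
    _ ≤ _ := Nat.mul_le_mul_right _ h5

/-- **(iii), general form** -/
theorem card_sq_le' (hMU : M ≤ U) (h1 : ∀ x ∈ U, ∀ m ∈ M, x * m * x⁻¹ ∈ M)
    (h2 : ∀ a ∈ A, ∀ m ∈ M, a * m * a⁻¹ ∈ M) (h3 : ∀ a ∈ A, (∀ m ∈ M, a * m = m * a) → a ∈ U) {k : ℕ}
    (hk : ∀ C : Subgroup G, C ≤ A → (Nat.card C).Coprime r → (∀ c ∈ C, ∀ u ∈ U, u⁻¹ * (c * u * c⁻¹) ∈ M) →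
      Nat.card C ≤ k) :
    Nat.card A ^ 2 ≤ Nat.card U * Nat.card ↥(A ⊓ U) * k := by
  obtain ⟨B, hBA, hcB, hcard, hBU⟩ := h.exists_part
  have h4 := card_sq_mul_le h.pr h.pU (fun b hb => h.norm b (hBA hb))
    (fun a ha b hb => h.comm a (hBA ha) b (hBA hb)) hcB hMU h1 (fun b hb => h2 b (hBA hb)) (k := k)
    (fun C hC hc => hk C (hC.trans hBA) (Nat.Coprime.coprime_dvd_left (Subgroup.card_dvd_of_le hC) hcB) hc)
  have h5 : B ⊓ centralizer (M : Set G) = ⊥ := by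
    rw [eq_bot_iff]
    intro b hb
    exact Subgroup.mem_bot.2 (hBU b hb.1 (h3 b (hBA hb.1) fun u hu =>
      (Subgroup.mem_centralizer_iff.1 hb.2 u hu).symm))
  rw [h5, Subgroup.card_bot, mul_one] at h4
  have h6 : Nat.card ↥(A ⊓ U) ≤ Nat.card ↥(U ⊓ centralizer (B : Set G)) :=
    Subgroup.card_le_of_le fun x hx => Subgroup.mem_inf.2 ⟨hx.2, Subgroup.mem_centralizer_iff.2 fun b hb =>
      h.comm b (hBA hb) x hx.1⟩
  rw [hcard]
  calc (Nat.card B * Nat.card ↥(A ⊓ U)) ^ 2 = Nat.card B ^ 2 * Nat.card ↥(A ⊓ U) * Nat.card ↥(A ⊓ U) := by ring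
    _ ≤ Nat.card B ^ 2 * Nat.card ↥(U ⊓ centralizer (B : Set G)) * Nat.card ↥(A ⊓ U) :=
        Nat.mul_le_mul_right _ (Nat.mul_le_mul_left _ h6)
    _ ≤ Nat.card U * k * Nat.card ↥(A ⊓ U) := Nat.mul_le_mul_right _ h4
    _ = _ := by ring

/-- if `C_U(M) ≤ M` then `C_A(M) ≤ U` -/
theorem cent_of_self (hMU : M ≤ U) (h1 : ∀ x ∈ U, ∀ m ∈ M, x * m * x⁻¹ ∈ M)
    (h3 : ∀ u ∈ U, (∀ m ∈ M, u * m = m * u) → u ∈ M) : ∀ a ∈ A, (∀ m ∈ M, a * m = m * a) → a ∈ U := by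
  intro a ha hM
  have hr := h.pr
  obtain ⟨j, m, hm, ho⟩ := Nat.exists_eq_pow_mul_and_not_dvd (orderOf_pos a).ne' r hr.ne_one
  have hcop : m.Coprime r := ((Nat.Prime.coprime_iff_not_dvd hr).2 hm).symm
  set b := a ^ r ^ j with hb
  have hbA : b ∈ A := A.pow_mem ha _
  have hbm : b ^ m = 1 := by rw [hb, ← pow_mul, ← ho, pow_orderOf_eq_one]
  have hbM : ∀ x ∈ M, b * x = x * b := fun x hx => ((show Commute a x from hM x hx).pow_left _).eq
  have h4 : ∀ u ∈ U, u⁻¹ * (b * u * b⁻¹) ∈ M := by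
    intro u hu
    refine h3 _ (U.mul_mem (U.inv_mem hu) (h.norm b hbA u hu)) fun x hx => ?_
    have h5 : b⁻¹ * x * b = x := by rw [mul_assoc, ← hbM x hx, inv_mul_cancel_left]
    have h6 := hbM _ (h1 u hu x hx)
    calc u⁻¹ * (b * u * b⁻¹) * x = u⁻¹ * (b * (u * (b⁻¹ * x * b) * u⁻¹)) * u * b⁻¹ := by group
      _ = u⁻¹ * (u * x * u⁻¹ * b) * u * b⁻¹ := by rw [h5, h6]
      _ = x * (u⁻¹ * (b * u * b⁻¹)) := by group
  have h5 := h.cent b hbA (comm_of_series h.pU hMU hcop hbm hbM h4)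
  exact h.mem a ha j (eq_one_of_pow h.pU hcop h5 hbm)

/-- **(iii)** `|A|² ≤ |U| |A ∩ U|` if `M ≤ ⁅U, U⁆` and `C_U(M) ≤ M` -/
theorem card_sq_le (hM : M ≤ ⁅U, U⁆) (h1 : ∀ x ∈ U, ∀ m ∈ M, x * m * x⁻¹ ∈ M)
    (h2 : ∀ a ∈ A, ∀ m ∈ M, a * m * a⁻¹ ∈ M) (h3 : ∀ u ∈ U, (∀ m ∈ M, u * m = m * u) → u ∈ M) :
    Nat.card A ^ 2 ≤ Nat.card U * Nat.card ↥(A ⊓ U) := by
  have hMU : M ≤ U := hM.trans (Subgroup.commutator_le_self U)
  have h4 := h.card_sq_le' hMU h1 h2 (h.cent_of_self hMU h1 h3) (k := 1) fun C hC hcC hc => by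
    refine h.card_le_one hM h2 (B := C) hC hcC (fun b hb hbU => ?_) le_rfl hc
    exact eq_one_of_pow h.pU hcC hbU (pow_card_mem hb)
  rwa [mul_one] at h4

end Dat

end Cfsg.Agent.H605.Ab
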